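import Mathlib.RingTheory.Coalgebra.GroupLike
import Mathlib.RingTheory.Flat.Domain
import Mathlib.Algebra.MonoidAlgebra.MapDomain
import Mathlib.Algebra.MonoidAlgebra.Basic
import Mathlib.RingTheory.Localization.FractionRing
import Mathlib.RingTheory.Ideal.Quotient.Operations
import Mathlib.RingTheory.TensorProduct.Basic

/-!
# Generic subgroups of a split torus over a domain

For a domain `A`, a commutative group `G` and an ideal `J` of `A[G]` whose functor of points (characters `χ` with
values in `A`-algebras killing `J`) is a group, `J` becomes over the fraction field the ideal of a diagonalizable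
subgroup `D(G/N)`.
-/

set_option autoImplicit false
universe u

open scoped TensorProduct

namespace K982.GenStab

section LinInd

variable {K R : Type*} [Field K] [CommRing R] [Algebra K R]

open Submodule TensorProduct in
/-- Group-like elements for a linear map `Δ` are linearly independent. -/
theorem linearIndepOn (Δ : R →ₗ[K] R ⊗[K] R) : LinearIndepOn K id {a : R | a ≠ 0 ∧ Δ a = a ⊗ₜ[K] a} := by
  classical
  rw [linearIndepOn_iff_linearIndepOn_finset]
  rintro s hs
  induction s using Finset.cons_induction with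
  | empty => simp
  | cons a s has ih =>
  simp only [Finset.cons_eq_insert, Finset.coe_insert, Set.subset_def, Set.mem_insert_iff,
    Finset.mem_coe, Set.mem_ofPred_eq, forall_eq_or_imp] at hs
  obtain ⟨ha, hs⟩ := hs
  specialize ih hs
  rw [Finset.coe_cons]
  refine ih.id_insert' ?_
  simp only [mem_span_finset, forall_exists_index, and_imp]
  rintro d c - hc
  replace ih := ih.tmul_of_isDomain ih
  simp_rw [← Finset.coe_product, linearIndepOn_finset_iffₛ, id] at ih
  have key := calc
        ∑ x ∈ s, ∑ y ∈ s, (if x = y then d * c x else 0) • x ⊗ₜ[K] y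
    _ = d • ∑ x ∈ s, c x • x ⊗ₜ[K] x := by simp [Finset.smul_sum, mul_smul]
    _ = d • Δ (d • a) := by rw [← hc]; simp +contextual [(hs _ _).2]
    _ = (d • a) ⊗ₜ (d • a) := by simp [ha.2, smul_tmul, tmul_smul, -neg_smul]
    _ = ∑ x ∈ s, ∑ y ∈ s, (c x * c y) • x ⊗ₜ[K] y := by
      simp_rw [← hc, sum_tmul, smul_tmul, Finset.smul_sum, tmul_sum, tmul_smul, mul_smul]
  simp_rw [← Finset.sum_product'] at key
  apply ih at key
  replace key x (hx : x ∈ s) : c x = 0 := by
    by_contra! hcx
    have hcy (y) (hys : y ∈ s) (hyx : y ≠ x) : c y = 0 := by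
      simpa [*] using (key (y, x) (by simp [*])).symm
    rw [Finset.sum_eq_single x (by simp +contextual [hcy]) (by simp [hx])] at hc
    have hcxa : d = c x := mul_left_injective₀ hcx (by simpa using (key (x, x) (by simp [*])))
    obtain rfl : x = a := by rwa [hcxa, smul_right_inj hcx] at hc
    contradiction
  simp_all [ha.1, eq_comm]

theorem linearIndependent_of_comul {ι : Type*} (Δ : R →ₗ[K] R ⊗[K] R) (v : ι → R) (hinj : Function.Injective v)
    (h0 : ∀ i, v i ≠ 0) (hΔ : ∀ i, Δ (v i) = v i ⊗ₜ[K] v i) : LinearIndependent K v := by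
  have h1 := linearIndepOn Δ
  have h2 : LinearIndependent K (fun i : ι => ((⟨v i, h0 i, hΔ i⟩ : {a : R | a ≠ 0 ∧ Δ a = a ⊗ₜ[K] a}) : R)) :=
    LinearIndependent.comp (v := fun x : {a : R | a ≠ 0 ∧ Δ a = a ⊗ₜ[K] a} => (x : R)) h1
      (fun i : ι => (⟨v i, h0 i, hΔ i⟩ : {a : R | a ≠ 0 ∧ Δ a = a ⊗ₜ[K] a})) (fun i j hij => by
        exact hinj (congrArg Subtype.val hij))
  exact h2

end LinInd

section Fld

variable {K : Type u} [Field K] {G : Type} [CommGroup G] (I : Ideal (MonoidAlgebra K G))

/-- `χ` is a point of the closed subscheme defined by `J`. -/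
def Kills {A : Type u} [CommRing A] (J : Ideal (MonoidAlgebra A G)) (C : Type u) [CommRing C] [Algebra A C]
    (χ : G →* C) : Prop :=
  ∀ z ∈ J, MonoidAlgebra.lift A C G χ z = 0

theorem Kills.map {A : Type u} [CommRing A] {J : Ideal (MonoidAlgebra A G)} {C C' : Type u} [CommRing C]
    [Algebra A C] [CommRing C'] [Algebra A C'] {χ : G →* C}
    (h : Kills J C χ) (f : C →ₐ[A] C') : Kills J C' ((f : C →* C').comp χ) := by
  intro z hz
  have h1 : MonoidAlgebra.lift A C' G ((f : C →* C').comp χ) = f.comp (MonoidAlgebra.lift A C G χ) := by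
    apply MonoidAlgebra.algHom_ext
    · intro m
      simp
    · ext
  rw [h1, AlgHom.comp_apply, h z hz, map_zero]

/-- the tautological character -/
noncomputable def chiR : G →* (MonoidAlgebra K G ⧸ I) :=
  ((Ideal.Quotient.mk I : MonoidAlgebra K G →* (MonoidAlgebra K G ⧸ I))).comp (MonoidAlgebra.of K G)

theorem chiR_apply (g : G) : chiR I g = Ideal.Quotient.mk I (MonoidAlgebra.single g 1) := rfl

theorem lift_chiR (z : MonoidAlgebra K G) :
    MonoidAlgebra.lift K (MonoidAlgebra K G ⧸ I) G (chiR I) z = Ideal.Quotient.mk I z := by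
  have h1 : MonoidAlgebra.lift K (MonoidAlgebra K G ⧸ I) G (chiR I) = Ideal.Quotient.mkₐ K I := by
    apply MonoidAlgebra.algHom_ext
    · intro m
      rw [MonoidAlgebra.lift_single, one_smul]
      rfl
    · ext
  rw [h1]
  rfl

theorem kills_chiR : Kills I (MonoidAlgebra K G ⧸ I) (chiR I) := by
  intro z hz
  rw [lift_chiR, Ideal.Quotient.eq_zero_iff_mem.2 hz]

variable (hmul : ∀ (C : Type u) [CommRing C] [Algebra K C] (χ₁ χ₂ : G →* C), Kills I C χ₁ → Kills I C χ₂ →
  Kills I C (χ₁ * χ₂)) (hone : Kills I K (1 : G →* K))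

include hmul in
theorem exists_comul : ∃ Δ : (MonoidAlgebra K G ⧸ I) →ₗ[K] (MonoidAlgebra K G ⧸ I) ⊗[K] (MonoidAlgebra K G ⧸ I),
    ∀ g : G, Δ (chiR I g) = chiR I g ⊗ₜ[K] chiR I g := by
  have key : ∀ (R : Type u) [CommRing R] [Algebra K R] (f : MonoidAlgebra K G →ₐ[K] R)
      (hf : ∀ z ∈ I, f z = 0), ∃ Δ : MonoidAlgebra K G →ₐ[K] R ⊗[K] R,
        (∀ g : G, Δ (MonoidAlgebra.single g 1) = f (MonoidAlgebra.single g 1) ⊗ₜ[K] f (MonoidAlgebra.single g 1)) ∧
        ∀ z ∈ I, Δ z = 0 := by
    intro R _ _ f hf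
    let χ : G →* R := (f : MonoidAlgebra K G →* R).comp (MonoidAlgebra.of K G)
    have hχ : Kills I R χ := by
      intro z hz
      have h1 : MonoidAlgebra.lift K R G χ = f := by
        apply MonoidAlgebra.algHom_ext
        · intro m
          simp [χ]
        · ext
      rw [h1, hf z hz]
    have h1 := hχ.map (Algebra.TensorProduct.includeLeft : R →ₐ[K] R ⊗[K] R)
    have h2 := hχ.map (Algebra.TensorProduct.includeRight : R →ₐ[K] R ⊗[K] R)
    refine ⟨MonoidAlgebra.lift K _ G _, fun g => ?_, hmul _ _ _ h1 h2⟩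
    rw [MonoidAlgebra.lift_single, one_smul]
    simp [χ]
  obtain ⟨Δ, h1, h2⟩ := key (MonoidAlgebra K G ⧸ I) (Ideal.Quotient.mkₐ K I)
    (fun z hz => Ideal.Quotient.eq_zero_iff_mem.2 hz)
  exact ⟨(Ideal.Quotient.liftₐ I Δ h2).toLinearMap, h1⟩

include hone in
theorem nontrivial_RK : Nontrivial (MonoidAlgebra K G ⧸ I) := by
  apply Ideal.Quotient.nontrivial_iff.2
  intro h
  have := hone 1 (by rw [h]; trivial)
  rw [map_one] at this
  exact one_ne_zero this

/-- the characters trivial on the generic fibre -/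
noncomputable def NK : Subgroup G := (chiR I).ker

theorem mem_NK (g : G) : g ∈ NK I ↔ chiR I g = 1 := Iff.rfl

/-- the characters of the generic fibre -/
noncomputable def chiQ : G ⧸ NK I →* (MonoidAlgebra K G ⧸ I) := QuotientGroup.lift (NK I) (chiR I) (le_refl _)

theorem chiQ_mk (g : G) : chiQ I (QuotientGroup.mk g) = chiR I g := rfl

theorem chiQ_injective : Function.Injective (chiQ I) := by
  intro a b h
  induction a using QuotientGroup.induction_on with
  | H a =>
    induction b using QuotientGroup.induction_on with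
    | H b =>
      rw [chiQ_mk, chiQ_mk] at h
      rw [QuotientGroup.eq, mem_NK, map_mul, ← h, ← map_mul, inv_mul_cancel, map_one]

include hmul hone in
theorem linearIndependent_chiQ : LinearIndependent K (chiQ I) := by
  obtain ⟨Δ, hΔ⟩ := exists_comul I hmul
  have := nontrivial_RK I hone
  refine linearIndependent_of_comul Δ _ (chiQ_injective I) (fun q => ?_) fun q => ?_
  · have h1 : chiQ I q * chiQ I q⁻¹ = 1 := by rw [← map_mul, mul_inv_cancel, map_one]
    exact left_ne_zero_of_mul_eq_one h1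
  · induction q using QuotientGroup.induction_on with
    | H g => exact hΔ g

include hmul hone in
theorem injective_lift_chiQ :
    Function.Injective (MonoidAlgebra.lift K (MonoidAlgebra K G ⧸ I) (G ⧸ NK I) (chiQ I)) := by
  rw [injective_iff_map_eq_zero]
  intro z hz
  have h1 := (linearIndependent_iff.1 (linearIndependent_chiQ I hmul hone)) z.coeff (by
    rw [Finsupp.linearCombination_apply, ← MonoidAlgebra.lift_apply]
    exact hz)
  ext q
  rw [h1]
  rfl

/-- the projection as a character -/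
noncomputable def chiP (N : Subgroup G) (C : Type u) [CommRing C] : G →* MonoidAlgebra C (G ⧸ N) :=
  (MonoidAlgebra.of C (G ⧸ N)).comp (QuotientGroup.mk' N)

theorem chiP_apply (N : Subgroup G) (C : Type u) [CommRing C] (g : G) :
    chiP N C g = MonoidAlgebra.single (QuotientGroup.mk g) 1 := rfl

include hmul hone in
theorem kills_chiP_frac : Kills I (MonoidAlgebra K (G ⧸ NK I)) (chiP (NK I) K) := by
  intro z hz
  apply injective_lift_chiQ I hmul hone
  have h1 : (MonoidAlgebra.lift K (MonoidAlgebra K G ⧸ I) (G ⧸ NK I) (chiQ I)).comp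
      (MonoidAlgebra.lift K (MonoidAlgebra K (G ⧸ NK I)) G (chiP (NK I) K)) =
      MonoidAlgebra.lift K (MonoidAlgebra K G ⧸ I) G (chiR I) := by
    apply MonoidAlgebra.algHom_ext
    · intro m
      rw [AlgHom.comp_apply, MonoidAlgebra.lift_single, one_smul, chiP_apply, MonoidAlgebra.lift_single, one_smul,
        MonoidAlgebra.lift_single, one_smul, chiQ_mk]
    · ext
  rw [map_zero, ← AlgHom.comp_apply, h1, lift_chiR, Ideal.Quotient.eq_zero_iff_mem.2 hz]

end Fld

section Alg

variable {A : Type u} [CommRing A] {G : Type} [CommGroup G] (J : Ideal (MonoidAlgebra A G))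

variable (K : Type u) [Field K] [Algebra A K]

/-- the extended ideal -/
noncomputable def JK : Ideal (MonoidAlgebra K G) := J.map (MonoidAlgebra.mapRingHom G (algebraMap A K))

theorem kills_iff {C : Type u} [CommRing C] [Algebra A C] [Algebra K C] [IsScalarTower A K C] (χ : G →* C) :
    Kills J C χ ↔ Kills (JK J K) C χ := by
  constructor
  · intro h
    have : JK J K ≤ RingHom.ker (MonoidAlgebra.lift K C G χ).toRingHom := by
      rw [JK, Ideal.map_le_iff_le_comap]
      intro z hz
      rw [Ideal.mem_comap, RingHom.mem_ker]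
      exact (MonoidAlgebra.lift_mapRingHom_algebraMap χ z).trans (h z hz)
    exact fun z hz => this hz
  · intro h z hz
    rw [← MonoidAlgebra.lift_mapRingHom_algebraMap (S := K)]
    exact h _ (Ideal.mem_map_of_mem _ hz)

variable (hmul : ∀ (C : Type u) [CommRing C] [Algebra A C] (χ₁ χ₂ : G →* C), Kills J C χ₁ → Kills J C χ₂ →
  Kills J C (χ₁ * χ₂)) (hone : ∀ (C : Type u) [CommRing C] [Algebra A C], Kills J C (1 : G →* C))

variable [IsFractionRing A K]

include hmul hone in
/-- The diagonalizable group `D(G/N)` over `A` is contained in the closed subscheme defined by `J`. -/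
theorem kills_chiP : Kills J (MonoidAlgebra A (G ⧸ NK (JK J K))) (chiP (NK (JK J K)) A) := by
  intro z hz
  have hinj : Function.Injective (MonoidAlgebra.mapRingHom (G ⧸ NK (JK J K)) (algebraMap A K)) :=
    MonoidAlgebra.map_injective _ (IsFractionRing.injective A K)
  apply hinj
  have h1 : (MonoidAlgebra.mapRingHom (G ⧸ NK (JK J K)) (algebraMap A K)).comp
      (MonoidAlgebra.lift A (MonoidAlgebra A (G ⧸ NK (JK J K))) G (chiP (NK (JK J K)) A)).toRingHom =
      (MonoidAlgebra.lift A (MonoidAlgebra K (G ⧸ NK (JK J K))) G (chiP (NK (JK J K)) K)).toRingHom := by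
    apply MonoidAlgebra.ringHom_ext
    · intro a
      simp [chiP_apply, Algebra.smul_def]
    · intro g
      simp [chiP_apply]
  have h0 : Kills (JK J K) (MonoidAlgebra K (G ⧸ NK (JK J K))) (chiP (NK (JK J K)) K) := by
    refine kills_chiP_frac (JK J K) (fun C _ _ χ₁ χ₂ h₁ h₂ => ?_) ?_
    · let _ : Algebra A C := ((algebraMap K C).comp (algebraMap A K)).toAlgebra
      have : IsScalarTower A K C := IsScalarTower.of_algebraMap_eq fun _ => rfl
      rw [← kills_iff J K] at h₁ h₂ ⊢
      exact hmul C χ₁ χ₂ h₁ h₂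
    · rw [← kills_iff J K]
      exact hone K
  have h2 := congrArg (fun f => f z) h1
  rw [← kills_iff J K] at h0
  exact (h2.trans (h0 z hz)).trans (map_zero _).symm

omit [IsFractionRing A K] in
theorem base_smul (d : A) (z : MonoidAlgebra A G) :
    MonoidAlgebra.mapRingHom G (algebraMap A K) (d • z) = d • MonoidAlgebra.mapRingHom G (algebraMap A K) z := by
  ext g
  simp [Algebra.smul_def]

theorem exists_smul_mem_range [IsDomain A] (c : MonoidAlgebra K G) :
    ∃ d : A, d ≠ 0 ∧ ∃ c' : MonoidAlgebra A G, d • c = MonoidAlgebra.mapRingHom G (algebraMap A K) c' := by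
  induction c using MonoidAlgebra.induction_linear with
  | zero => exact ⟨1, one_ne_zero, 0, by simp⟩
  | add x y hx hy =>
    obtain ⟨d₁, h₁, c₁, e₁⟩ := hx
    obtain ⟨d₂, h₂, c₂, e₂⟩ := hy
    refine ⟨d₁ * d₂, mul_ne_zero h₁ h₂, d₂ • c₁ + d₁ • c₂, ?_⟩
    rw [map_add, base_smul, base_smul, ← e₁, ← e₂, smul_add, smul_smul, smul_smul, mul_comm d₁ d₂]
  | single m r =>
    obtain ⟨⟨a, b⟩, hab⟩ := IsLocalization.surj (nonZeroDivisors A) r
    refine ⟨b, nonZeroDivisors.ne_zero b.2, MonoidAlgebra.single m a, ?_⟩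
    rw [MonoidAlgebra.mapRingHom_single, ← hab, MonoidAlgebra.smul_single, Algebra.smul_def, mul_comm]

theorem exists_smul_eq [IsDomain A] {y : MonoidAlgebra K G} (hy : y ∈ JK J K) :
    ∃ d : A, d ≠ 0 ∧ ∃ j ∈ J, d • y = MonoidAlgebra.mapRingHom G (algebraMap A K) j := by
  refine Submodule.span_induction (p := fun y _ => ∃ d : A, d ≠ 0 ∧ ∃ j ∈ J, d • y =
    MonoidAlgebra.mapRingHom G (algebraMap A K) j) ?_ ?_ ?_ ?_ hy
  · rintro _ ⟨j, hj, rfl⟩
    exact ⟨1, one_ne_zero, j, hj, one_smul _ _⟩
  · exact ⟨1, one_ne_zero, 0, J.zero_mem, by simp⟩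
  · rintro x y _ _ ⟨d₁, h₁, c₁, j₁, e₁⟩ ⟨d₂, h₂, c₂, j₂, e₂⟩
    refine ⟨d₁ * d₂, mul_ne_zero h₁ h₂, d₂ • c₁ + d₁ • c₂,
      J.add_mem (Submodule.smul_of_tower_mem _ _ j₁) (Submodule.smul_of_tower_mem _ _ j₂), ?_⟩
    rw [map_add, base_smul, base_smul, ← e₁, ← e₂, smul_add, smul_smul, smul_smul, mul_comm d₁ d₂]
  · rintro c y _ ⟨d, h, j, hj, e⟩
    obtain ⟨d', h', c', e'⟩ := exists_smul_mem_range (A := A) K c
    refine ⟨d' * d, mul_ne_zero h' h, c' * j, J.mul_mem_left _ hj, ?_⟩
    rw [map_mul, ← e', ← e, smul_eq_mul, smul_mul_smul_comm]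

/-- Elements which vanish on the generic fibre vanish after inverting a non-zero element. -/
theorem exists_smul_mem [IsDomain A] {z : MonoidAlgebra A G}
    (hz : MonoidAlgebra.mapRingHom G (algebraMap A K) z ∈ JK J K) : ∃ d : A, d ≠ 0 ∧ d • z ∈ J := by
  obtain ⟨d, hd, j, hj, e⟩ := exists_smul_eq J K hz
  refine ⟨d, hd, ?_⟩
  rw [← base_smul] at e
  have hinj : Function.Injective (MonoidAlgebra.mapRingHom G (algebraMap A K)) :=
    MonoidAlgebra.map_injective _ (IsFractionRing.injective A K)
  rwa [hinj e]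

theorem exists_forall_smul_mem [IsDomain A] (h : NK (JK J K) = ⊤) (s : Finset G) :
    ∃ d : A, d ≠ 0 ∧ ∀ g ∈ s, d • (MonoidAlgebra.single g 1 - 1 : MonoidAlgebra A G) ∈ J := by
  classical
  induction s using Finset.induction_on with
  | empty => exact ⟨1, one_ne_zero, by simp⟩
  | insert g s _ ih =>
    obtain ⟨d, hd, hs⟩ := ih
    have h1 : g ∈ NK (JK J K) := by rw [h]; trivial
    rw [mem_NK] at h1
    have h2 : MonoidAlgebra.mapRingHom G (algebraMap A K) (MonoidAlgebra.single g 1 - 1) ∈ JK J K := by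
      rw [← Ideal.Quotient.eq_zero_iff_mem, map_sub, map_sub, map_one, map_one, sub_eq_zero,
        MonoidAlgebra.mapRingHom_single, map_one]
      exact h1
    obtain ⟨d', hd', h3⟩ := exists_smul_mem J K h2
    refine ⟨d * d', mul_ne_zero hd hd', fun g' hg' => ?_⟩
    rcases Finset.mem_insert.1 hg' with rfl | hg'
    · rw [mul_smul]
      exact Submodule.smul_of_tower_mem _ _ h3
    · rw [mul_comm, mul_smul]
      exact Submodule.smul_of_tower_mem _ _ (hs g' hg')

end Alg

end K982.GenStab
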