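import Groth.Agent.Sga7.H783.C3Ind
import Groth.Agent.Sga7.H742.P1Dim
import Groth.Agent.Sga7.H742.P1Red
import Groth.Agent.Sga7.H274.GoodSemi
import Groth.Agent.AlgGrp.K408.GaTor
import Groth.Agent.AlgGrp.K408.BcField
import Groth.Agent.AlgGrp.K407.CentChar
import Groth.Agent.AlgGrp.K404.TorSplit
import Groth.Agent.Etbase.FpqcDescent
import Groth.Agent.S1842
import Groth.Agent.Sga3.H780.Pointed

/-!
# Closed subgroups of semi-abelian varieties without `ℓ`-torsion are finite

`K982.SemiTors.isFinite`: over an algebraically closed field, an algebraic group `H` into which no closed `𝔾ₐ` embeds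
and with `h ^ ℓ = 1 → h = 1` for points in arbitrary schemes is finite (`ℓ` any prime, possibly the characteristic).
-/

set_option autoImplicit false
universe u

open CategoryTheory CategoryTheory.Limits MonoidalCategory CartesianMonoidalCategory MonObj GrpObj AlgebraicGeometry

namespace K982.SemiTors

variable {K : Type u} [Field K]

/-- `𝔾ₘ` has non-trivial `ℓ`-torsion. -/
theorem gm_torsion (ℓ : ℕ) (hℓ : ℓ.Prime)
    (h : ∀ (Y : Over (Spec (CommRingCat.of K))) (x : Y ⟶ Red.Gm (Spec (CommRingCat.of K))), x ^ ℓ = 1 → x = 1) :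
    False := by
  let φ : ℤ →+ ZMod ℓ := Int.castAddHom (ZMod ℓ)
  let y : ℤ →+ ℤ := AddMonoidHom.mulLeft (ℓ : ℤ)
  have h1 : Red.DSmap (Spec (CommRingCat.of K)) φ ≫ Red.DSmap (Spec (CommRingCat.of K)) y =
      (Red.DSmap (Spec (CommRingCat.of K)) φ : _ ⟶ Red.DS (Spec (CommRingCat.of K)) ℤ) ^ ℓ :=
    K407.CentChar.comp_DSmap_eq_pow y ℓ (by simp [y]) _
  have h2 : φ.comp y = 0 := by
    ext
    simp [φ, y]
  rw [K407.CentChar.DSmap_comp, h2, K404.TorSplit.DSmap_zero] at h1
  have h3 := h _ (Red.DSmap (Spec (CommRingCat.of K)) φ) h1.symm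
  rw [← K404.TorSplit.DSmap_zero] at h3
  have h4 := K404.TorSplit.DSmap_injective h3
  have h5 := DFunLike.congr_fun h4 (1 : ℤ)
  have : Fact (1 < ℓ) := ⟨hℓ.one_lt⟩
  simp [φ] at h5

variable [IsAlgClosed K]

open Groth.Agent in
/-- An algebraic group without closed `𝔾ₐ` and without `ℓ`-torsion is finite. -/
theorem isFinite (H : Over (Spec (CommRingCat.of K))) [GrpObj H] [LocallyOfFiniteType H.hom] [QuasiCompact H.hom]
    (hGa : ∀ i : Red.Ga (Spec (CommRingCat.of K)) ⟶ H, IsMonHom i → Mono i → False)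
    (ℓ : ℕ) (hℓ : ℓ.Prime) (htors : ∀ (Y : Over (Spec (CommRingCat.of K))) (h : Y ⟶ H), h ^ ℓ = 1 → h = 1) :
    IsFinite H.hom := by
  by_contra hfin
  obtain ⟨U, _, u, hu, hcl, hsm, hconn, hUfin⟩ := Sga7.H742.P1Red.exists_smooth_of_not_isFinite H hfin
  have hUq : QuasiCompact U.hom := by
    rw [← Over.w u]; infer_instance
  have hmono : Mono u := Books.AlgPtsGrp.mono_of_isClosedImmersion u
  have hU : ∀ (Y : Over (Spec (CommRingCat.of K))) (h : Y ⟶ U), h ^ ℓ = 1 → h = 1 := by
    intro Y h hh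
    rw [← cancel_mono u, MonObj.one_comp]
    refine htors _ _ ?_
    rw [← MonObj.pow_comp, hh, MonObj.one_comp]
  by_cases hprop : IsProper U.hom
  · have hgi := Groth.Agent.Sga3.H780.Pointed.geometricallyIntegral U
    have hcomm : IsCommMonObj U := isCommMonObj_of_isProper_of_geometricallyIntegral U
    obtain ⟨g, hg0, hg⟩ := Sga7.H742.P1Dim.exists_dim_pos U hUfin
    obtain ⟨h1, h2, h3⟩ := Groth.Agent.S1842.pos_case K U g hg ℓ hℓ.one_le
    have hm : Mono (𝟙 U ^ ℓ) := by
      constructor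
      intro Z a b hab
      rw [MonObj.comp_pow, MonObj.comp_pow, Category.comp_id, Category.comp_id] at hab
      have h4 : (a * b⁻¹) ^ ℓ = 1 := by
        rw [mul_pow, hab, inv_pow, mul_inv_cancel]
      exact mul_inv_eq_one.1 (hU _ _ h4)
    have hml : Mono (𝟙 U ^ ℓ).left := inferInstanceAs (Mono ((Over.forget _).map (𝟙 U ^ ℓ)))
    have hs : Surjective (𝟙 U ^ ℓ).left := Grpsch.MulFin.surjective_pow U ℓ hℓ.one_le
    have hi : IsIso (𝟙 U ^ ℓ).left := Flat.isIso_of_surjective_of_mono _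
    have h5 := Scheme.Hom.finrank_eq_one_of_isIso (𝟙 U ^ ℓ).left
    obtain ⟨x⟩ : Nonempty U.left := hconn.toNonempty
    have h6 := h3 x
    rw [h5] at h6
    have h7 : ℓ ^ (2 * g) = 1 := h6.symm
    rw [Nat.pow_eq_one] at h7
    have := hℓ.one_lt
    omega
  · rcases Sga7.H783.C3Ind.exists_ga_or_gm U hprop with ⟨-, i, hi, hicl⟩ | ⟨-, i, hi, hicl⟩
    · have him : Mono i := Books.AlgPtsGrp.mono_of_isClosedImmersion i
      exact hGa (i ≫ u) inferInstance inferInstance
    · have him : Mono i := Books.AlgPtsGrp.mono_of_isClosedImmersion i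
      refine gm_torsion (K := K) ℓ hℓ fun Y x hx => ?_
      rw [← cancel_mono i, MonObj.one_comp]
      refine hU _ _ ?_
      have h8 := MonObj.pow_comp x ℓ i
      rw [hx, MonObj.one_comp] at h8
      exact h8.symm

end K982.SemiTors
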