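import Groth.Agent.AlgGrp.K982.GenStab
import Groth.Agent.AlgGrp.K403.Dense
import Groth.Agent.AGF.K495.Bridge
import Groth.Agent.Sga3B.DSPts
import Groth.Agent.OneMot.K982.Torus
import Groth.Agent.ChGrp.K982.Act
import Groth.Agent.ChGrp.K982.Descent

/-!
# Generic stabilizers of torus actions
-/

set_option autoImplicit false
universe u

open CategoryTheory CategoryTheory.Limits MonoidalCategory CartesianMonoidalCategory MonObj GrpObj AlgebraicGeometry

namespace K982.TorusStab

open Groth.Agent.Sga3B.DSPts Groth.Agent.Books.AffBridge K982.Act K982.GenStab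

variable {k : Type u} [Field k]

section Points

variable {M : Type} [AddCommGroup M] {C C' : Type u} [CommRing C] [Algebra k C] [CommRing C'] [Algebra k C']

variable (k C) in
/-- global sections of a spectrum -/
noncomputable def gam : C →* Γ((SpecOver k C).left, ⊤) :=
  ((Scheme.ΓSpecIso (CommRingCat.of C)).inv.hom : C →* Γ(Spec (CommRingCat.of C), ⊤))

variable (k C) in
theorem gam_bijective : Function.Bijective (gam k C) :=
  ConcreteCategory.bijective_of_isIso (Scheme.ΓSpecIso (CommRingCat.of C)).inv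

/-- the point of a split torus given by a character -/
noncomputable def pT (χ : Multiplicative M →* C) : SpecOver k C ⟶ Red.DS (Spec (CommRingCat.of k)) M :=
  dsEquiv (SpecOver k C) M ((gam k C).comp χ)

theorem pT_mul (χ χ' : Multiplicative M →* C) : pT (k := k) (χ * χ') = pT χ * pT χ' := by
  rw [pT, pT, pT, ← map_mul]
  congr 1
  exact MonoidHom.ext fun m => map_mul (gam k C) _ _

theorem pT_one : pT (k := k) (1 : Multiplicative M →* C) = 1 := by
  rw [pT]
  have : (gam k C).comp (1 : Multiplicative M →* C) = 1 := MonoidHom.ext fun m => map_one (gam k C)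
  rw [this, map_one]

theorem specMap_pT (f : C →ₐ[k] C') (χ : Multiplicative M →* C) :
    specMap k f ≫ pT χ = pT ((f : C →* C').comp χ) := by
  rw [pT, pT, dsEquiv_naturality]
  congr 1
  refine MonoidHom.ext fun m => ?_
  have h1 := Scheme.ΓSpecIso_inv_naturality (CommRingCat.ofHom f.toRingHom)
  exact (congrArg (fun g => g.hom (χ m)) h1).symm

theorem pT_injective : Function.Injective (pT (k := k) (M := M) (C := C)) := by
  intro χ χ' h
  have h1 := (dsEquiv (S := Spec (CommRingCat.of k)) (SpecOver k C) M).injective h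
  refine MonoidHom.ext fun m => ?_
  exact (gam_bijective k C).1 (DFunLike.congr_fun h1 m)

theorem pT_surjective (x : SpecOver k C ⟶ Red.DS (Spec (CommRingCat.of k)) M) :
    ∃ χ : Multiplicative M →* C, x = pT χ := by
  refine ⟨((MulEquiv.ofBijective (gam k C) (gam_bijective k C)).symm : _ →* C).comp
    ((dsEquiv (SpecOver k C) M).symm x), ?_⟩
  rw [pT, ← MulEquiv.symm_apply_eq]
  refine MonoidHom.ext fun m => ?_
  exact ((MulEquiv.ofBijective (gam k C) (gam_bijective k C)).apply_symm_apply _).symm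

end Points

section Fix

variable {r : ℕ} {T X : Over (Spec (CommRingCat.of k))} [GrpObj T] [IsSeparated X.hom]
  (θ : Red.DS (Spec (CommRingCat.of k)) (Fin r → ℤ) ≅ T) [IsMonHom θ.hom]
  (a : AlgGrp.Action T X) {A : Type u} [CommRing A] [Algebra k A] (jA : SpecOver k A ⟶ X)

/-- fixing the point given by an `A`-algebra -/
def Fix (C : Type u) [CommRing C] [Algebra k C] (ψ : A →ₐ[k] C) (χ : Multiplicative (Fin r → ℤ) →* C) : Prop :=
  sm a (pT χ ≫ θ.hom) (specMap k ψ ≫ jA) = specMap k ψ ≫ jA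

omit [IsSeparated X.hom] in
theorem Fix.mul {C : Type u} [CommRing C] [Algebra k C] {ψ : A →ₐ[k] C} {χ χ' : Multiplicative (Fin r → ℤ) →* C}
    (h : Fix θ a jA C ψ χ) (h' : Fix θ a jA C ψ χ') : Fix θ a jA C ψ (χ * χ') := by
  rw [Fix] at h h' ⊢
  rw [pT_mul, MonObj.mul_comp, mul_sm, h', h]

omit [IsSeparated X.hom] in
theorem Fix.one {C : Type u} [CommRing C] [Algebra k C] {ψ : A →ₐ[k] C} :
    Fix θ a jA C ψ 1 := by
  rw [Fix, pT_one, MonObj.one_comp, one_sm]

omit [IsSeparated X.hom] [IsMonHom θ.hom] in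
theorem Fix.map {C C' : Type u} [CommRing C] [Algebra k C] [CommRing C'] [Algebra k C'] {ψ : A →ₐ[k] C}
    {χ : Multiplicative (Fin r → ℤ) →* C} (h : Fix θ a jA C ψ χ) (f : C →ₐ[k] C') :
    Fix θ a jA C' (f.comp ψ) ((f : C →* C').comp χ) := by
  rw [Fix] at h ⊢
  rw [← specMap_pT, specMap_comp, Category.assoc, Category.assoc, ← comp_sm, h]

omit [IsMonHom θ.hom] in
theorem exists_ideal_fix : ∃ J : Ideal (MonoidAlgebra A (Multiplicative (Fin r → ℤ))),
    ∀ (C : Type u) [CommRing C] [Algebra A C] [Algebra k C] [IsScalarTower k A C]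
      (χ : Multiplicative (Fin r → ℤ) →* C), Kills J C χ ↔ Fix θ a jA C (IsScalarTower.toAlgHom k A C) χ := by
  let P := MonoidAlgebra A (Multiplicative (Fin r → ℤ))
  let inc : A →ₐ[k] P := IsScalarTower.toAlgHom k A P
  obtain ⟨J, hJ⟩ := K982.Torus.exists_ideal
    (sm a (pT (MonoidAlgebra.of A (Multiplicative (Fin r → ℤ))) ≫ θ.hom) (specMap k inc ≫ jA)) (specMap k inc ≫ jA)
  refine ⟨J, fun C _ _ _ _ χ => ?_⟩
  have h1 := hJ C ((MonoidAlgebra.lift A C (Multiplicative (Fin r → ℤ)) χ).restrictScalars k)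
  have h2 : (((MonoidAlgebra.lift A C (Multiplicative (Fin r → ℤ)) χ).restrictScalars k : P →ₐ[k] C) : P →* C).comp
      (MonoidAlgebra.of A (Multiplicative (Fin r → ℤ))) = χ :=
    MonoidHom.ext fun m => (MonoidAlgebra.lift_single _ _ _).trans (one_smul _ _)
  have h3 : ((MonoidAlgebra.lift A C (Multiplicative (Fin r → ℤ)) χ).restrictScalars k).comp inc =
      IsScalarTower.toAlgHom k A C :=
    AlgHom.ext fun x => (MonoidAlgebra.lift A C (Multiplicative (Fin r → ℤ)) χ).commutes x
  rw [comp_sm, ← Category.assoc, specMap_pT, ← Category.assoc, ← specMap_comp, h2, h3] at h1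
  exact h1

omit [IsSeparated X.hom] in
/-- A generator criterion. -/
theorem eq_one_of_gen {C : Type*} [CommMonoid C] (χ : Multiplicative (Fin r → ℤ) →* C)
    (h : ∀ i : Fin r, χ (Multiplicative.ofAdd (Pi.single i 1)) = 1) : χ = 1 := by
  refine MonoidHom.ext fun m => ?_
  have h1 : m = ∏ i : Fin r, (Multiplicative.ofAdd (Pi.single i (1 : ℤ) : Fin r → ℤ)) ^ (m.toAdd i) := by
    apply Multiplicative.toAdd.injective
    rw [toAdd_prod]
    ext j
    rw [Finset.sum_apply]
    simp only [toAdd_zpow, toAdd_ofAdd, Pi.smul_apply, smul_eq_mul]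
    rw [Finset.sum_eq_single j]
    · simp
    · intro i _ hij
      simp [Pi.single_apply, hij.symm]
    · simp
  have h2 : m ∈ χ.ker := by
    rw [h1]
    exact Subgroup.prod_mem _ fun i _ => Subgroup.zpow_mem _ (h i) _
  exact h2

/-- The affine part of the argument. -/
theorem exists_ne_zero [IsDomain A] [IsSchemeTheoreticallyDominant jA.left] [QuasiCompact jA.left]
    (hfaith : ∀ (S : Over (Spec (CommRingCat.of k))) (g : S ⟶ T),
      (∀ (S' : Over (Spec (CommRingCat.of k))) (s : S' ⟶ S) (x : S' ⟶ X), lift (s ≫ g) x ≫ a.act = x) → g = 1) :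
    ∃ d : A, d ≠ 0 ∧ ∀ (C : Type u) [CommRing C] [Algebra k C] (ψ : A →ₐ[k] C)
      (χ : Multiplicative (Fin r → ℤ) →* C), IsUnit (ψ d) → Fix θ a jA C ψ χ → χ = 1 := by
  classical
  obtain ⟨J, hJ⟩ := exists_ideal_fix θ a jA
  have hmul : ∀ (C : Type u) [CommRing C] [Algebra A C] (χ₁ χ₂ : Multiplicative (Fin r → ℤ) →* C),
      Kills J C χ₁ → Kills J C χ₂ → Kills J C (χ₁ * χ₂) := by
    intro C _ _ χ₁ χ₂ h₁ h₂
    let _ : Algebra k C := ((algebraMap A C).comp (algebraMap k A)).toAlgebra
    have : IsScalarTower k A C := IsScalarTower.of_algebraMap_eq fun _ => rfl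
    rw [hJ] at h₁ h₂ ⊢
    exact h₁.mul θ a jA h₂
  have hone : ∀ (C : Type u) [CommRing C] [Algebra A C], Kills J C (1 : Multiplicative (Fin r → ℤ) →* C) := by
    intro C _ _
    let _ : Algebra k C := ((algebraMap A C).comp (algebraMap k A)).toAlgebra
    have : IsScalarTower k A C := IsScalarTower.of_algebraMap_eq fun _ => rfl
    rw [hJ]
    exact Fix.one θ a jA
  let N : Subgroup (Multiplicative (Fin r → ℤ)) := NK (JK J (FractionRing A))
  have hP : Fix θ a jA (MonoidAlgebra A (Multiplicative (Fin r → ℤ) ⧸ N)) (IsScalarTower.toAlgHom k A _) (chiP N A) :=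
    (hJ _ _).1 (kills_chiP J (FractionRing A) hmul hone)
  -- the subgroup `D(G/N)` acts trivially on the affine chart
  have hP' : ∀ (C : Type u) [CommRing C] [Algebra k C] (ψ : A →ₐ[k] C)
      (ρ : MonoidAlgebra k (Multiplicative (Fin r → ℤ) ⧸ N) →ₐ[k] C),
      Fix θ a jA C ψ ((ρ : _ →* C).comp (chiP N k)) := by
    intro C _ _ ψ ρ
    let _ : Algebra A C := ψ.toAlgebra
    have : IsScalarTower k A C := IsScalarTower.of_algebraMap_eq fun c => (ψ.commutes c).symm
    let fA : MonoidAlgebra A (Multiplicative (Fin r → ℤ) ⧸ N) →ₐ[A] C :=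
      MonoidAlgebra.lift A C (Multiplicative (Fin r → ℤ) ⧸ N) ((ρ : _ →* C).comp (MonoidAlgebra.of k _))
    let f : MonoidAlgebra A (Multiplicative (Fin r → ℤ) ⧸ N) →ₐ[k] C := fA.restrictScalars k
    have h1 := hP.map θ a jA f
    have h2 : f.comp (IsScalarTower.toAlgHom k A _) = ψ :=
      AlgHom.ext fun x => fA.commutes x
    have h3 : (f : _ →* C).comp (chiP N A) = (ρ : _ →* C).comp (chiP N k) :=
      MonoidHom.ext fun m => (MonoidAlgebra.lift_single _ _ _).trans (one_smul _ _)
    rwa [h2, h3] at h1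
  let D : Over (Spec (CommRingCat.of k)) := SpecOver k (MonoidAlgebra k (Multiplicative (Fin r → ℤ) ⧸ N))
  let g : D ⟶ T := pT (chiP N k) ≫ θ.hom
  have hDf : Flat (snd D X).left :=
    MorphismProperty.of_isPullback (P := @Flat) (IsPullback.of_hasPullback D.hom X.hom) inferInstance
  have hpb : IsPullback (snd D (SpecOver k A)).left (D ◁ jA).left jA.left (snd D X).left :=
    (K982.Descent.isPullback_whiskerLeft D jA).map (Over.forget _)
  have hdom : IsSchemeTheoreticallyDominant (D ◁ jA).left :=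
    IsSchemeTheoreticallyDominant.of_isPullback hpb
  have huniv : sm a (fst D X ≫ g) (snd D X) = snd D X := by
    refine K403.Dense.eq_of_separated_over (D ◁ jA) _ _ ?_
    rw [comp_sm, whiskerLeft_snd, ← Category.assoc, whiskerLeft_fst]
    have haff : IsAffine (D ⊗ SpecOver k A).left :=
      inferInstanceAs (IsAffine (pullback D.hom (SpecOver k A).hom))
    obtain ⟨C, _, _, ⟨e⟩⟩ := K495.Bridge.exists_specOver (D ⊗ SpecOver k A)
    rw [← cancel_epi e.inv, comp_sm, ← Category.assoc, ← Category.assoc, ← Category.assoc]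
    have h1 := hP' C (specPreimage k (e.inv ≫ snd D (SpecOver k A))) (specPreimage k (e.inv ≫ fst D (SpecOver k A)))
    rw [Fix, ← specMap_pT, specMap_specPreimage, specMap_specPreimage] at h1
    simp only [Category.assoc] at h1 ⊢
    exact h1
  have hg : g = 1 := by
    refine hfaith D g fun S' s x => ?_
    have h1 := congrArg (fun m => lift s x ≫ m) huniv
    simp only [comp_sm] at h1
    rw [lift_snd, ← Category.assoc, lift_fst] at h1
    exact h1
  have hN : N = ⊤ := by
    have h1 : pT (k := k) (chiP N k) = pT (1 : Multiplicative (Fin r → ℤ) →* _) := by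
      rw [← cancel_mono θ.hom, pT_one, MonObj.one_comp]
      exact hg
    have h2 := pT_injective h1
    rw [eq_top_iff]
    intro m _
    have h3 : MonoidAlgebra.of k (Multiplicative (Fin r → ℤ) ⧸ N) (QuotientGroup.mk m) =
        MonoidAlgebra.of k (Multiplicative (Fin r → ℤ) ⧸ N) 1 := by
      rw [map_one]
      exact DFunLike.congr_fun h2 m
    exact (QuotientGroup.eq_one_iff m).1 (MonoidAlgebra.of_injective h3)
  obtain ⟨d, hd, hs⟩ := exists_forall_smul_mem J (FractionRing A) hN
    (Finset.univ.image fun i : Fin r => Multiplicative.ofAdd (Pi.single i (1 : ℤ) : Fin r → ℤ))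
  refine ⟨d, hd, fun C _ _ ψ χ hu hfix => ?_⟩
  let _ : Algebra A C := ψ.toAlgebra
  have : IsScalarTower k A C := IsScalarTower.of_algebraMap_eq fun c => (ψ.commutes c).symm
  have h1 : Kills J C χ := (hJ C χ).2 hfix
  refine eq_one_of_gen χ fun i => ?_
  have h2 := h1 _ (hs _ (Finset.mem_image_of_mem _ (Finset.mem_univ i)))
  rw [map_smul, map_sub, map_one, MonoidAlgebra.lift_single, one_smul, Algebra.smul_def] at h2
  exact sub_eq_zero.1 ((IsUnit.mul_right_eq_zero (a := algebraMap A C d) hu).1 h2)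

end Fix

/-- Morphisms over a field agree when they agree on affine test objects. -/
theorem hom_ext_affine {S T : Over (Spec (CommRingCat.of k))} {f g : S ⟶ T}
    (h : ∀ (C : Type u) [CommRing C] [Algebra k C] (w : SpecOver k C ⟶ S), w ≫ f = w ≫ g) : f = g := by
  ext1
  refine Scheme.Cover.hom_ext S.left.affineCover _ _ fun i => ?_
  let W : Over (Spec (CommRingCat.of k)) := Over.mk (S.left.affineCover.f i ≫ S.hom)
  let w : W ⟶ S := Over.homMk (S.left.affineCover.f i)
  have hW : IsAffine W.left := inferInstanceAs (IsAffine (S.left.affineCover.X i))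
  obtain ⟨C, _, _, ⟨e⟩⟩ := K495.Bridge.exists_specOver W
  have h1 := h C (e.inv ≫ w)
  rw [Category.assoc, Category.assoc, cancel_epi] at h1
  exact congrArg (fun m => m.left) h1

/-- rational points in the image of a basic open of a chart -/
theorem exists_algHom {X : Over (Spec (CommRingCat.of k))} {A : Type u} [CommRing A] [Algebra k A]
    (jA : SpecOver k A ⟶ X) [IsOpenImmersion jA.left] (d : A) (x : 𝟙_ (Over (Spec (CommRingCat.of k))) ⟶ X)
    (hx : x.left (IsLocalRing.closedPoint k) ∈ jA.left ''ᵁ (PrimeSpectrum.basicOpen d)) :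
    ∃ ε : A →ₐ[k] k, ε d ≠ 0 ∧ toUnit (SpecOver k k) ≫ x = specMap k ε ≫ jA := by
  obtain ⟨y, hy, hyx⟩ := hx
  have hpt : ∀ z : (SpecOver k k).left, (toUnit (SpecOver k k) ≫ x).left z = jA.left y := by
    intro z
    refine Eq.trans ?_ hyx.symm
    rw [Over.comp_left, Scheme.Hom.comp_apply]
    congr 1
    exact Subsingleton.elim (α := PrimeSpectrum k) _ _
  have hrange : Set.range (toUnit (SpecOver k k) ≫ x).left ⊆ Set.range jA.left := by
    rintro _ ⟨z, rfl⟩
    exact ⟨y, (hpt z).symm⟩
  let xl : SpecOver k k ⟶ SpecOver k A := Over.homMk (IsOpenImmersion.lift jA.left _ hrange) (by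
    rw [← Over.w jA, IsOpenImmersion.lift_fac_assoc, Over.w])
  have hxl : xl ≫ jA = toUnit (SpecOver k k) ≫ x := by
    ext1
    exact IsOpenImmersion.lift_fac _ _ _
  refine ⟨specPreimage k xl, ?_, ?_⟩
  · intro h0
    have h1 : xl.left (IsLocalRing.closedPoint k) = y := by
      apply jA.left.isOpenEmbedding.injective
      rw [← hpt (IsLocalRing.closedPoint k), ← hxl]
      rfl
    rw [← h1] at hy
    apply hy
    have h2 : xl.left = Spec.map (CommRingCat.ofHom (specPreimage k xl).toRingHom) := by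
      conv_lhs => rw [← specMap_specPreimage k xl]
      rfl
    rw [h2]
    change (specPreimage k xl) d ∈ (IsLocalRing.closedPoint k).asIdeal
    rw [h0]
    exact Ideal.zero_mem _
  · rw [specMap_specPreimage, hxl]

/-- The generic stabilizer of a faithful torus action is trivial. -/
theorem exists_open [IsAlgClosed k] (T X : Over (Spec (CommRingCat.of k))) [GrpObj T] (r : ℕ)
    (hT : Red.IsSplitTorusWith (Fin r → ℤ) T)
    [LocallyOfFiniteType X.hom] [QuasiCompact X.hom] [IsSeparated X.hom] [IsIntegral X.left]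
    (a : AlgGrp.Action T X)
    (hfaith : ∀ (S : Over (Spec (CommRingCat.of k))) (g : S ⟶ T),
      (∀ (S' : Over (Spec (CommRingCat.of k))) (s : S' ⟶ S) (x : S' ⟶ X), lift (s ≫ g) x ≫ a.act = x) → g = 1) :
    ∃ U : X.left.Opens, Dense (U : Set ↥X.left) ∧
      ∀ x : 𝟙_ (Over (Spec (CommRingCat.of k))) ⟶ X, x.left (IsLocalRing.closedPoint k) ∈ U →
        ∀ (S : Over (Spec (CommRingCat.of k))) (g : S ⟶ T), lift g (toUnit S ≫ x) ≫ a.act = toUnit S ≫ x → g = 1 := by
  obtain ⟨e'⟩ := hT
  let θ : Red.DS (Spec (CommRingCat.of k)) (Fin r → ℤ) ≅ T := (Grp.forget _).mapIso e'.symm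
  have hθ : IsMonHom θ.hom := e'.symm.hom.hom.isMonHom_hom
  obtain ⟨x₀⟩ : Nonempty X.left := inferInstance
  obtain ⟨_, ⟨V, hV, rfl⟩, hx₀, -⟩ := X.left.isBasis_affineOpens.exists_subset_of_mem_open
    (Set.mem_univ x₀) isOpen_univ
  have hVne : Nonempty V := ⟨⟨x₀, hx₀⟩⟩
  obtain ⟨φ, hφ⟩ := Spec.map_surjective (hV.fromSpec ≫ X.hom)
  let A : Type u := Γ(X.left, V)
  let _ : Algebra k A := φ.hom.toAlgebra
  let jA : SpecOver k A ⟶ X := Over.homMk hV.fromSpec hφ.symm
  have hAd : IsDomain A := inferInstanceAs (IsDomain Γ(X.left, V))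
  have hop : IsOpenImmersion jA.left := inferInstanceAs (IsOpenImmersion hV.fromSpec)
  have hqc : QuasiCompact jA.left := by
    have h1 : QuasiCompact (jA.left ≫ X.hom) := inferInstanceAs (QuasiCompact (hV.fromSpec ≫ X.hom))
    exact QuasiCompact.of_comp jA.left X.hom
  have hdense : IsDominant jA.left := by
    have h1 : DenseRange jA.left := by
      have h2 : Set.range jA.left = V := hV.range_fromSpec
      rw [DenseRange, h2]
      exact V.2.dense ⟨x₀, hx₀⟩
    exact ⟨h1⟩
  have hdom : IsSchemeTheoreticallyDominant jA.left := IsSchemeTheoreticallyDominant.of_isDominant _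
  obtain ⟨d, hd, hfin⟩ := exists_ne_zero θ a jA hfaith
  refine ⟨jA.left ''ᵁ (PrimeSpectrum.basicOpen d), ?_, ?_⟩
  · refine (jA.left ''ᵁ (PrimeSpectrum.basicOpen d)).2.dense ?_
    refine ⟨jA.left (⊥ : PrimeSpectrum A), ⟨(⊥ : PrimeSpectrum A), ?_, rfl⟩⟩
    exact fun h => hd (by simpa using h)
  · intro x hx S g hg
    obtain ⟨ε, hεd, hε⟩ := exists_algHom jA d x hx
    refine hom_ext_affine fun C _ _ w => ?_
    obtain ⟨χ, hχ⟩ := pT_surjective ((w ≫ g) ≫ θ.inv)
    have hwg : w ≫ g = pT χ ≫ θ.hom := by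
      rw [← hχ, Category.assoc, Iso.inv_hom_id, Category.comp_id]
    have hψ : specMap k ((Algebra.ofId k C).comp ε) ≫ jA = w ≫ toUnit S ≫ x := by
      rw [specMap_comp, Category.assoc, ← hε, ← Category.assoc, ← Category.assoc]
      congr 1
      exact toUnit_unique _ _
    have hfix : Fix θ a jA C ((Algebra.ofId k C).comp ε) χ := by
      rw [Fix, hψ, ← hwg]
      have h1 := congrArg (fun m => w ≫ m) hg
      simp only [lift_act, comp_sm] at h1
      exact h1
    have hu : IsUnit (((Algebra.ofId k C).comp ε) d) := (IsUnit.mk0 _ hεd).map (algebraMap k C)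
    rw [hwg, hfin C _ χ hu hfix, pT_one, MonObj.one_comp, MonObj.comp_one]

end K982.TorusStab
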